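import Cfsg.Agent.H810.RIM.BFin3
import Cfsg.Agent.OrdDiv.Table
import Cfsg.Agent.S0000
import Cfsg.Agent.S3331

/-!
# S4816, the rows (B, 5) and (B, 3) (helper810)

`nball_five`, `nball_three` (from an element of order 27 with the centralizer of order 27).
-/

set_option autoImplicit false

namespace Cfsg.Agent.H810.RIM.BRow

open Cfsg

universe u

theorem base : Cfsg.Agent.H940.Eng.Base where
  table := Cfsg.Agent.OrdDiv.table
  known _ _ _ _ := Cfsg.Agent.S0000.result

theorem sThree : Cfsg.Agent.H715.Mon.Grp.SThree.{0} := fun _ _ _ X hX hC => Cfsg.Agent.S3331.result X hX hC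

/-- **(B, 5)** -/
theorem nball_five {S : Type u} [Group S] [Finite S] (h : Spor.IsoB S) : Cfsg.Agent.H665.RIM.NBall.{u} 5 S :=
  BFin.nball_five_of base sThree h

/-- **(B, 3)** from an element of order 27 -/
theorem nball_three {S : Type u} [Group S] [Finite S] (h : Spor.IsoB S)
    (hx : ∃ x : S, orderOf x = 27 ∧ Nat.card (Subgroup.centralizer ({x} : Set S)) = 27) :
    Cfsg.Agent.H665.RIM.NBall.{u} 3 S :=
  BFin3.nball_three_of base sThree h hx

end Cfsg.Agent.H810.RIM.BRow
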