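import Mathlib.GroupTheory.QuotientGroup.Defs
import Mathlib.GroupTheory.Subgroup.Center
import Mathlib.GroupTheory.Subgroup.Centralizer
import Mathlib.SetTheory.Cardinal.Finite
import Mathlib.Tactic.Group

/-!
# Transport of `C(t) / Z(C(t)) ≃ L` to a conjugate of `t` (helper810, for S4816, piece B2 of helper657)
-/

set_option autoImplicit false

namespace Cfsg.Agent.H810.RIM.CovConj

open Subgroup

universe u v

/-- conjugation by `g` as an isomorphism of the centralizers -/
def cent {M : Type v} [Group M] (t g : M) : centralizer ({t} : Set M) ≃* centralizer ({g * t * g⁻¹} : Set M) where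
  toFun a := ⟨g * (a : M) * g⁻¹, by
    rw [mem_centralizer_singleton_iff]
    have h := mem_centralizer_singleton_iff.1 a.2
    calc g * (a : M) * g⁻¹ * (g * t * g⁻¹) = g * ((a : M) * t) * g⁻¹ := by group
      _ = g * (t * (a : M)) * g⁻¹ := by rw [h]
      _ = g * t * g⁻¹ * (g * (a : M) * g⁻¹) := by group⟩
  invFun b := ⟨g⁻¹ * (b : M) * g, by
    rw [mem_centralizer_singleton_iff]
    have h := mem_centralizer_singleton_iff.1 b.2
    calc g⁻¹ * (b : M) * g * t = g⁻¹ * ((b : M) * (g * t * g⁻¹)) * g := by group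
      _ = g⁻¹ * (g * t * g⁻¹ * (b : M)) * g := by rw [h]
      _ = t * (g⁻¹ * (b : M) * g) := by group⟩
  left_inv a := Subtype.ext (by
    change g⁻¹ * (g * (a : M) * g⁻¹) * g = a
    group)
  right_inv b := Subtype.ext (by
    change g * (g⁻¹ * (b : M) * g) * g⁻¹ = b
    group)
  map_mul' a b := Subtype.ext (by
    change g * ((a : M) * b) * g⁻¹ = g * (a : M) * g⁻¹ * (g * (b : M) * g⁻¹)
    group)

theorem map_center {A B : Type*} [Group A] [Group B] (c : A ≃* B) :
    (center A).map (c : A →* B) = center B := by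
  ext b
  rw [Subgroup.mem_map]
  constructor
  · rintro ⟨a, ha, rfl⟩
    rw [mem_center_iff]
    intro b
    have h := mem_center_iff.1 ha (c.symm b)
    have h1 := congrArg c h
    rw [map_mul, map_mul, c.apply_symm_apply] at h1
    exact h1
  · intro hb
    refine ⟨c.symm b, ?_, c.apply_symm_apply b⟩
    rw [mem_center_iff]
    intro a
    have h := mem_center_iff.1 hb (c a)
    have h1 := congrArg c.symm h
    rw [map_mul, map_mul, c.symm_apply_apply] at h1
    exact h1

/-- **Transport of the cover to a conjugate.** -/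
theorem cover_conj {M : Type v} [Group M] {L : Type u} [Group L] {t : M}
    (h2 : Nat.card ↥(center ↥(centralizer ({t} : Set M))) = 2)
    (e : ↥(centralizer ({t} : Set M)) ⧸ center ↥(centralizer ({t} : Set M)) ≃* L) (g : M) :
    Nat.card ↥(center ↥(centralizer ({g * t * g⁻¹} : Set M))) = 2 ∧
      ∃ e' : ↥(centralizer ({g * t * g⁻¹} : Set M)) ⧸ center ↥(centralizer ({g * t * g⁻¹} : Set M)) ≃* L,
        ∀ (a : M) (ha : a ∈ centralizer ({t} : Set M)) (ha' : g * a * g⁻¹ ∈ centralizer ({g * t * g⁻¹} : Set M)),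
          e' (QuotientGroup.mk ⟨g * a * g⁻¹, ha'⟩) = e (QuotientGroup.mk ⟨a, ha⟩) := by
  refine ⟨?_, (QuotientGroup.congr _ _ (cent t g) (map_center (cent t g))).symm.trans e, fun a ha ha' => ?_⟩
  · rw [← h2]
    exact (Nat.card_congr (Subgroup.centerCongr (cent t g)).toEquiv).symm
  · rw [MulEquiv.trans_apply]
    congr 1
    rw [MulEquiv.symm_apply_eq]
    rfl

end Cfsg.Agent.H810.RIM.CovConj
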