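import Cfsg.Agent.H492.OZ.FiB
import Cfsg.Agent.H820.ElB
import Mathlib.GroupTheory.Sylow
import Mathlib.GroupTheory.PGroup

/-!
# An element of order 27 of the Baby Monster in a Sylow 3-subgroup (helper810, for S4816, row (B, 3))

`exists_el` : the image `x` of the element of order 27 of `Fi23` and the image `P` of a Sylow 3-subgroup of `Fi23`.
-/

set_option autoImplicit false

namespace Cfsg.Agent.H810.RIM.B27El

open Cfsg

/-- the centralizer of the element of order 27 of `Fi23` is `⟨y⟩` -/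
theorem mem_zpowers_of_comm {g : Spor.Fi23} (hg : g * Cfsg.Agent.H492.OZ.FiB.y = Cfsg.Agent.H492.OZ.FiB.y * g) :
    g ∈ Subgroup.zpowers Cfsg.Agent.H492.OZ.FiB.y := by
  have hfin : Finite Spor.Fi23 := Cfsg.Agent.H980.PwFi23.finite
  have hle : Subgroup.zpowers Cfsg.Agent.H492.OZ.FiB.y ≤ Subgroup.centralizer {Cfsg.Agent.H492.OZ.FiB.y} := by
    rw [Subgroup.zpowers_le]
    exact Subgroup.mem_centralizer_singleton_iff.2 rfl
  have hc : Nat.card (Subgroup.centralizer ({Cfsg.Agent.H492.OZ.FiB.y} : Set Spor.Fi23)) ≤ 27 :=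
    Cfsg.Agent.H492.OZ.FiB.y_cent
  have he : Subgroup.zpowers Cfsg.Agent.H492.OZ.FiB.y = Subgroup.centralizer {Cfsg.Agent.H492.OZ.FiB.y} := by
    refine Subgroup.eq_of_le_of_card_ge hle ?_
    rw [Nat.card_zpowers, Cfsg.Agent.H492.OZ.FiB.y_order]
    exact hc
  rw [he]
  exact Subgroup.mem_centralizer_singleton_iff.2 hg

theorem pow_aux : ∀ k < 27, k ≠ 0 → ∃ t < 27, (k * t) % 27 = 9 := by decide

/-- the Sylow 3-subgroup of `Fi23` -/
theorem exists_fi : ∃ P : Subgroup Spor.Fi23, IsPGroup 3 P ∧ Nat.card P = 3 ^ 13 ∧ Cfsg.Agent.H492.OZ.FiB.y ∈ P ∧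
    ∀ g ∈ P, g * Cfsg.Agent.H492.OZ.FiB.y ^ 9 = Cfsg.Agent.H492.OZ.FiB.y ^ 9 * g := by
  have hfin : Finite Spor.Fi23 := Cfsg.Agent.H980.PwFi23.finite
  have hp3 : Fact (Nat.Prime 3) := ⟨Nat.prime_three⟩
  have hyP : IsPGroup 3 (Subgroup.zpowers Cfsg.Agent.H492.OZ.FiB.y) := by
    refine IsPGroup.of_card (n := 3) ?_
    rw [Nat.card_zpowers, Cfsg.Agent.H492.OZ.FiB.y_order]
    norm_num
  obtain ⟨P, hP⟩ := hyP.exists_le_sylow
  have hy : Cfsg.Agent.H492.OZ.FiB.y ∈ (P : Subgroup Spor.Fi23) := hP (Subgroup.mem_zpowers _)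
  have hcard : Nat.card (P : Subgroup Spor.Fi23) = 3 ^ 13 := by
    refine Nat.dvd_antisymm ?_ ?_
    · obtain ⟨n, hn⟩ := (IsPGroup.iff_card).1 P.isPGroup'
      rw [hn]
      refine Nat.pow_dvd_pow 3 ?_
      by_contra hlt
      have h14 : 3 ^ 14 ∣ Nat.card Spor.Fi23 :=
        (Nat.pow_dvd_pow 3 (by omega)).trans (hn ▸ Subgroup.card_subgroup_dvd_card (P : Subgroup Spor.Fi23))
      rw [Cfsg.Agent.H980.PwFi23.card_fi23] at h14
      revert h14
      norm_num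
    · refine P.pow_dvd_card_of_pow_dvd_card ?_
      rw [Cfsg.Agent.H980.PwFi23.card_fi23]
      norm_num
  refine ⟨P, P.isPGroup', hcard, hy, ?_⟩
  have hnt : Nontrivial (P : Subgroup Spor.Fi23) := by
    refine Finite.one_lt_card_iff_nontrivial.1 ?_
    rw [hcard]
    norm_num
  have hz : Nontrivial (Subgroup.center (P : Subgroup Spor.Fi23)) := P.isPGroup'.center_nontrivial
  obtain ⟨⟨z, hzc⟩, hz1⟩ := exists_ne (1 : Subgroup.center (P : Subgroup Spor.Fi23))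
  have hcomm : ∀ g ∈ (P : Subgroup Spor.Fi23), g * (z : Spor.Fi23) = z * g := fun g hg =>
    congrArg Subtype.val (Subgroup.mem_center_iff.1 hzc ⟨g, hg⟩)
  have hz1' : (z : Spor.Fi23) ≠ 1 := fun h => hz1 (Subtype.ext (Subtype.ext h))
  have hzy : (z : Spor.Fi23) ∈ Subgroup.zpowers Cfsg.Agent.H492.OZ.FiB.y :=
    mem_zpowers_of_comm (hcomm _ hy).symm
  have hzy' : (z : Spor.Fi23) ∈ Submonoid.powers Cfsg.Agent.H492.OZ.FiB.y :=
    (mem_powers_iff_mem_zpowers).2 hzy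
  obtain ⟨k, hk⟩ := (Submonoid.mem_powers_iff _ _).1 hzy'
  have hk' : Cfsg.Agent.H492.OZ.FiB.y ^ (k % 27) = z := by
    rw [← hk]
    have h := pow_mod_orderOf Cfsg.Agent.H492.OZ.FiB.y k
    rwa [Cfsg.Agent.H492.OZ.FiB.y_order] at h
  have hk0 : k % 27 ≠ 0 := by
    intro h0
    rw [h0, pow_zero] at hk'
    exact hz1' hk'.symm
  obtain ⟨t, -, ht⟩ := pow_aux (k % 27) (Nat.mod_lt _ (by norm_num)) hk0
  have h9 : (z : Spor.Fi23) ^ t = Cfsg.Agent.H492.OZ.FiB.y ^ 9 := by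
    rw [← hk', ← pow_mul]
    have h := pow_mod_orderOf Cfsg.Agent.H492.OZ.FiB.y (k % 27 * t)
    rw [Cfsg.Agent.H492.OZ.FiB.y_order, ht] at h
    exact h.symm
  intro g hg
  rw [← h9]
  have hc : Commute g (z : Spor.Fi23) := hcomm g hg
  exact (hc.pow_right t).eq

/-- **An element `x` of order 27 of the Baby Monster in a Sylow 3-subgroup `P` with `C_P(x) = ⟨x⟩`.** -/
theorem exists_el : ∃ (x : Spor.BabyMonster) (P : Subgroup Spor.BabyMonster), orderOf x = 27 ∧ IsPGroup 3 P ∧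
    Nat.card P = 3 ^ 13 ∧ x ∈ P ∧ (∀ g ∈ P, g * x = x * g → g ∈ Subgroup.zpowers x) ∧
    (∀ g ∈ P, g * x ^ 9 = x ^ 9 * g) := by
  obtain ⟨f, hf⟩ := Cfsg.Agent.H820.ElB.exists_hom
  obtain ⟨P, hP, hc, hy, h9⟩ := exists_fi
  refine ⟨f Cfsg.Agent.H492.OZ.FiB.y, P.map f, ?_, hP.map f, ?_, Subgroup.mem_map_of_mem f hy, ?_, ?_⟩
  · rw [orderOf_injective f hf]
    exact Cfsg.Agent.H492.OZ.FiB.y_order
  · rw [Subgroup.card_map_of_injective hf]
    exact hc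
  · rintro _ ⟨g, hg, rfl⟩ h
    rw [← map_mul, ← map_mul] at h
    have h1 := mem_zpowers_of_comm (hf h)
    obtain ⟨n, hn⟩ := Subgroup.mem_zpowers_iff.1 h1
    refine Subgroup.mem_zpowers_iff.2 ⟨n, ?_⟩
    rw [← hn, map_zpow]
  · rintro _ ⟨g, hg, rfl⟩
    rw [← map_pow, ← map_mul, ← map_mul]
    exact congrArg f (h9 g hg)

end Cfsg.Agent.H810.RIM.B27El
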