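import Cfsg.Agent.H810.RIM.Fin2
import Cfsg.Agent.H810.RIM.BCent
import Cfsg.Agent.H705.TwoB.Eleven
import Cfsg.Agent.H139.LD.Struct13
import Cfsg.Agent.H715.Mon.Exact
import Cfsg.Agent.H954.DR.CentB
import Cfsg.Agent.H620.RIM.Nb
import Cfsg.Agent.H620.RIM.Mult
import Cfsg.Agent.HN.A12Group

/-!
# 26 classes of the Baby Monster which are good for the double cover (helper810, S4816)

* `norm47`, `norm31`, `norm23`, `norm19` : the orders of the centralizers and of the normalizers;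
* `exists_F26` : a set of 26 classes with `MGood 2`;
* `nb_five` : `NB 5 m B` for `m ∣ 2`, `nball_five_of` : `NBall 5 B`.
-/

set_option autoImplicit false
set_option maxRecDepth 100000
set_option linter.unusedSectionVars false

namespace Cfsg.Agent.H810.RIM.BFin

open Cfsg Cfsg.Agent Subgroup
open Cfsg.Agent.H810.RIM.Fin2
open Cfsg.Agent.H620.RIM (MGood mGood_of_coprime mGood_of_self)
open Cfsg.Agent.H715.Mon.Grp (SThree)
open Cfsg.Agent.H940.Eng (Base)

universe u

/-! ### elements of `A₁₂` -/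

section alt

open Equiv

/-- odd order elements are even permutations -/
theorem mem_alt {σ : Perm (Fin 12)} {k : ℕ} (h : σ ^ (2 * k + 1) = 1) : σ ∈ alternatingGroup (Fin 12) := by
  have h1 : σ = (σ ^ (k + 1)) ^ 2 := by
    rw [← pow_mul, show (k + 1) * 2 = (2 * k + 1) + 1 by ring, pow_succ, h, one_mul]
  rw [Equiv.Perm.mem_alternatingGroup, h1, map_pow]
  exact Int.units_sq _

def s9 : Perm (Fin 12) where
  toFun := ![1, 2, 3, 4, 5, 6, 7, 8, 0, 9, 10, 11]
  invFun := ![8, 0, 1, 2, 3, 4, 5, 6, 7, 9, 10, 11]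
  left_inv := by decide
  right_inv := by decide

def s15 : Perm (Fin 12) where
  toFun := ![1, 2, 0, 4, 5, 6, 7, 3, 8, 9, 10, 11]
  invFun := ![2, 0, 1, 7, 3, 4, 5, 6, 8, 9, 10, 11]
  left_inv := by decide
  right_inv := by decide

def s21 : Perm (Fin 12) where
  toFun := ![1, 2, 0, 4, 5, 6, 7, 8, 9, 3, 10, 11]
  invFun := ![2, 0, 1, 9, 3, 4, 5, 6, 7, 8, 10, 11]
  left_inv := by decide
  right_inv := by decide

def s35 : Perm (Fin 12) where
  toFun := ![1, 2, 3, 4, 0, 6, 7, 8, 9, 10, 11, 5]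
  invFun := ![4, 0, 1, 2, 3, 11, 5, 6, 7, 8, 9, 10]
  left_inv := by decide
  right_inv := by decide

theorem o9 : s9 ^ 9 = 1 ∧ s9 ^ 3 ≠ 1 := by decide +kernel
theorem o15 : s15 ^ 15 = 1 ∧ s15 ^ 3 ≠ 1 ∧ s15 ^ 5 ≠ 1 := by decide +kernel
theorem o21 : s21 ^ 21 = 1 ∧ s21 ^ 3 ≠ 1 ∧ s21 ^ 7 ≠ 1 := by decide +kernel
theorem o35 : s35 ^ 35 = 1 ∧ s35 ^ 5 ≠ 1 ∧ s35 ^ 7 ≠ 1 := by decide +kernel

theorem order_two_primes {G : Type*} [Group G] {g : G} {p q : ℕ} (hp : p.Prime) (hq : q.Prime) (h : g ^ (p * q) = 1)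
    (h1 : g ^ p ≠ 1) (h2 : g ^ q ≠ 1) : orderOf g = p * q := by
  refine orderOf_eq_of_pow_and_pow_div_prime (Nat.mul_pos hp.pos hq.pos) h ?_
  intro r hr hd
  rcases hr.dvd_mul.1 hd with h3 | h3
  · rw [(Nat.prime_dvd_prime_iff_eq hr hp).1 h3, Nat.mul_div_cancel_left _ hp.pos]
    exact h2
  · rw [(Nat.prime_dvd_prime_iff_eq hr hq).1 h3, Nat.mul_div_cancel _ hq.pos]
    exact h1

theorem exists_alt {n : ℕ} (hn : n = 9 ∨ n = 15 ∨ n = 21 ∨ n = 35) : ∃ σ : alternatingGroup (Fin 12), orderOf σ = n := by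
  rcases hn with rfl | rfl | rfl | rfl
  · refine ⟨⟨s9, mem_alt (k := 4) o9.1⟩, ?_⟩
    rw [Subgroup.orderOf_mk]
    exact order_two_primes (p := 3) (q := 3) Nat.prime_three Nat.prime_three o9.1 o9.2 o9.2
  · refine ⟨⟨s15, mem_alt (k := 7) o15.1⟩, ?_⟩
    rw [Subgroup.orderOf_mk]
    exact order_two_primes (p := 3) (q := 5) Nat.prime_three Nat.prime_five o15.1 o15.2.1 o15.2.2
  · refine ⟨⟨s21, mem_alt (k := 10) o21.1⟩, ?_⟩
    rw [Subgroup.orderOf_mk]
    exact order_two_primes (p := 3) (q := 7) Nat.prime_three (by norm_num) o21.1 o21.2.1 o21.2.2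
  · refine ⟨⟨s35, mem_alt (k := 17) o35.1⟩, ?_⟩
    rw [Subgroup.orderOf_mk]
    exact order_two_primes (p := 5) (q := 7) Nat.prime_five (by norm_num) o35.1 o35.2.1 o35.2.2

theorem exists_a12 {L : Type u} [Group L] (h : Spor.IsoB L) {n : ℕ} (hn : n = 9 ∨ n = 15 ∨ n = 21 ∨ n = 35) :
    ∃ a : L, orderOf a = n := by
  obtain ⟨e⟩ := h
  obtain ⟨σ, hσ⟩ := exists_alt hn
  obtain ⟨K, ⟨f⟩⟩ := Cfsg.Agent.HN.A12Group.exists_alternating
  obtain ⟨θ, hθ⟩ := H525.RO.BRow.exists_hom
  refine ⟨e.symm (θ (f.symm σ : K)), ?_⟩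
  rw [MulEquiv.orderOf_eq, orderOf_injective θ hθ, Subgroup.orderOf_coe, MulEquiv.orderOf_eq, hσ]

end alt

variable {L : Type u} [Group L] [Finite L]

/-! ### centralizers and normalizers -/

theorem card_L (h : Spor.IsoB L) : Nat.card L = 4154781481226426191177580544000000 := NotCT.Orders.b h

theorem simple_L (h : Spor.IsoB L) : IsSimpleGroup L := by
  obtain ⟨e⟩ := h
  exact (MulEquiv.isSimpleGroup_congr e).2 (Cfsg.Agent.S1704.result : Cfsg.IsB Cfsg.Spor.BabyMonster).1

/-- the normalizer from the centralizer -/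
theorem norm_of {p c w : ℕ} (hp : p.Prime) (h : Spor.IsoB L) (hsq : ¬ p ^ 2 ∣ 4154781481226426191177580544000000)
    (hchk : ∀ e ∈ Nat.divisors (p - 1), 4154781481226426191177580544000000 / (c * e) % p = 1 % p → e = w)
    {x : L} (hx : orderOf x = p) (hc : Nat.card (centralizer ({x} : Set L)) = c) :
    Nat.card (normalizer ((zpowers x : Subgroup L) : Set L)) = w * c := by
  obtain ⟨e, he, h1, h2⟩ := H954.DR.CentB.arith hp (by rw [card_L h]; exact hsq) hx
  rw [card_L h, hc] at h2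
  rw [← h1, hc, hchk e (Nat.mem_divisors.2 ⟨he, by have := hp.two_le; omega⟩) h2, mul_comm]

theorem not_real_of {p c w : ℕ} (hp : p.Prime) (hp2 : p ≠ 2) (hc0 : 0 < c) (hw : ¬ 2 ∣ w)
    {x : L} (hx : orderOf x = p) (hc : Nat.card (centralizer ({x} : Set L)) = c)
    (hN : Nat.card (normalizer ((zpowers x : Subgroup L) : Set L)) = w * c) : ¬ IsConj x x⁻¹ := by
  intro hr
  have h1 := two_dvd_of_real (by rw [hx]; exact hp.odd_of_ne_two hp2) (by
    rintro rfl
    rw [orderOf_one] at hx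
    exact hp.one_lt.ne hx) hr
  rw [hc, hN] at h1
  exact hw (Nat.dvd_of_mul_dvd_mul_right hc0 h1)

theorem norm47 (h : Spor.IsoB L) {x : L} (hx : orderOf x = 47) :
    Nat.card (centralizer ({x} : Set L)) = 47 ∧ Nat.card (normalizer ((zpowers x : Subgroup L) : Set L)) = 23 * 47 := by
  have := simple_L h
  have hc := H954.DR.CentB.cent47 h hx
  exact ⟨hc, norm_of (by norm_num) h (by norm_num) (by decide +kernel) hx hc⟩

theorem norm31 (h3 : SThree.{0}) (h : Spor.IsoB L) {x : L} (hx : orderOf x = 31) :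
    Nat.card (centralizer ({x} : Set L)) = 31 ∧ Nat.card (normalizer ((zpowers x : Subgroup L) : Set L)) = 15 * 31 := by
  have hc := H715.Mon.Exact.B.cent31 h3 h hx
  exact ⟨hc, norm_of (by norm_num) h (by norm_num) (by decide +kernel) hx hc⟩

theorem norm23 (h3 : SThree.{0}) (h : Spor.IsoB L) {x : L} (hx : orderOf x = 23) :
    Nat.card (centralizer ({x} : Set L)) = 46 ∧ Nat.card (normalizer ((zpowers x : Subgroup L) : Set L)) = 11 * 46 := by
  have hc := H715.Mon.Exact.B.cent23 h3 h hx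
  exact ⟨hc, norm_of (by norm_num) h (by norm_num) (by decide +kernel) hx hc⟩

theorem norm19 (h3 : SThree.{0}) (h : Spor.IsoB L) {x : L} (hx : orderOf x = 19) :
    Nat.card (centralizer ({x} : Set L)) = 38 ∧ Nat.card (normalizer ((zpowers x : Subgroup L) : Set L)) = 18 * 38 := by
  have hc := H715.Mon.Exact.B.cent19 h3 h hx
  exact ⟨hc, norm_of (by norm_num) h (by norm_num) (by decide +kernel) hx hc⟩

/-! ### the elements -/

theorem good_odd {n : ℕ} {x : L} (hx : orderOf x = n) (hn : Nat.Coprime n 2) : MGood 2 x :=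
  mGood_of_coprime (by rw [hx]; exact hn)

theorem exists_prime (h : Spor.IsoB L) {p : ℕ} (hp : p.Prime) (hd : p ∣ 4154781481226426191177580544000000) :
    ∃ a : L, orderOf a = p := by
  have : Fact p.Prime := ⟨hp⟩
  exact exists_prime_orderOf_dvd_card' p (by rw [card_L h]; exact hd)

/-- a self-centralizing element of order `p q` -/
theorem exists_self {p q : ℕ} {x : L} (hx : orderOf x = p) (hq : q.Prime) (hpq : p.Coprime q)
    (hc : Nat.card (centralizer ({x} : Set L)) = p * q) :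
    ∃ y : L, orderOf y = p * q ∧ MGood 2 y ∧ MGood 2 y⁻¹ ∧ ∃ a : ℕ, y ^ a = x := by
  obtain ⟨t, h1, h2, h3, h4, h5, -⟩ := exists_mul hx hq hpq (by rw [hc]; exact dvd_mul_left q p)
  have hself : ∀ y : L, orderOf y = p * q → Nat.card (centralizer ({y} : Set L)) ∣ p * q → MGood 2 y := by
    intro y hy hd
    have h6 : p * q ∣ Nat.card (centralizer ({y} : Set L)) := by
      rw [← hy]
      exact Subgroup.orderOf_dvd_natCard _ (mem_centralizer_singleton_iff.2 rfl)
    exact mGood_of_self (orderOf_pos y).ne' (by rw [hy]; exact Nat.dvd_antisymm hd h6)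
  have hci : centralizer ({(x * t)⁻¹} : Set L) = centralizer ({x * t} : Set L) := by
    ext g
    rw [mem_centralizer_singleton_iff, mem_centralizer_singleton_iff]
    constructor
    · intro hg
      have := (show Commute g (x * t)⁻¹ from hg).inv_right
      rw [inv_inv] at this
      exact this.eq
    · intro hg
      exact ((show Commute g (x * t) from hg).inv_right).eq
  rw [hc] at h4
  refine ⟨x * t, h1, hself _ h1 h4, hself _ (by rw [orderOf_inv, h1]) (by rw [hci]; exact h4), ?_⟩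
  obtain ⟨a, ha1, ha2⟩ := Nat.chineseRemainder hpq 1 0
  refine ⟨a, ?_⟩
  rw [(show Commute x t from h3).mul_pow]
  have h6 : x ^ a = x := by
    conv_rhs => rw [← pow_one x]
    exact pow_eq_pow_iff_modEq.2 (by rw [hx]; exact ha1)
  have h7 : t ^ a = 1 := by
    rw [← orderOf_dvd_iff_pow_eq_one, h2]
    exact (Nat.modEq_zero_iff_dvd).1 ha2
  rw [h6, h7, mul_one]

/-- the elements of the 26 classes -/
theorem facts26 (B : Base) (h3 : SThree.{0}) (h : Spor.IsoB L) :
    (∀ n ∈ ({1, 3, 7, 9, 11, 13, 15, 17, 19, 21, 25, 33, 35, 39, 55, 38} : Finset ℕ), ∃ a : L, orderOf a = n ∧ MGood 2 a) ∧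
      ∀ n ∈ ({5, 23, 31, 47, 46} : Finset ℕ), ∃ a b : L, orderOf a = n ∧ orderOf b = n ∧ MGood 2 a ∧ MGood 2 b ∧
        ¬ IsConj a b := by
  obtain ⟨x11, e11⟩ := exists_prime h (p := 11) (by norm_num) (by norm_num)
  obtain ⟨x13, e13⟩ := exists_prime h (p := 13) (by norm_num) (by norm_num)
  obtain ⟨x19, e19⟩ := exists_prime h (p := 19) (by norm_num) (by norm_num)
  obtain ⟨x23, e23⟩ := exists_prime h (p := 23) (by norm_num) (by norm_num)
  obtain ⟨x31, e31⟩ := exists_prime h (p := 31) (by norm_num) (by norm_num)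
  obtain ⟨x47, e47⟩ := exists_prime h (p := 47) (by norm_num) (by norm_num)
  obtain ⟨x25, e25⟩ := BCent.exists_elt h
  have c11 : Nat.card (centralizer ({x11} : Set L)) = 1320 := (H705.TwoB.Eleven.struct11 B h e11).1
  have c13 : Nat.card (centralizer ({x13} : Set L)) = 312 := (H139.LD.struct13 h e13).1
  have n23 := norm23 h3 h e23
  have n31 := norm31 h3 h e31
  have n47 := norm47 h e47
  have r23 := not_real_of (by norm_num) (by norm_num) (by norm_num) (by norm_num) e23 n23.1 n23.2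
  have r31 := not_real_of (by norm_num) (by norm_num) (by norm_num) (by norm_num) e31 n31.1 n31.2
  have r47 := not_real_of (by norm_num) (by norm_num) (by norm_num) (by norm_num) e47 n47.1 n47.2
  -- order 55 and the elements of order 5
  obtain ⟨y5, o55, oy5, hc5, -, -, hy5le⟩ := exists_mul (q := 5) e11 Nat.prime_five (by norm_num) (by rw [c11]; norm_num)
  have hnc5 : ¬ IsConj y5 (x25 ^ 5) := by
    intro hcj
    have h11 : 11 ∣ Nat.card (centralizer ({y5} : Set L)) := by
      rw [← e11]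
      exact Subgroup.orderOf_dvd_natCard _ (mem_centralizer_singleton_iff.2 hc5)
    have h1 : Nat.card ↥(centralizer ({y5} : Set L)) = Nat.card ↥(centralizer ({x25 ^ 5} : Set L)) :=
      MThirteen.card_cent_conj hcj
    rw [h1] at h11
    have h2 := (h11.trans (Dvd.intro _ rfl)).trans (BCent.five_b h e25).2
    norm_num at h2
  have o25 : orderOf (x25 ^ 5) = 5 := by rw [orderOf_pow' _ (by norm_num), e25]; norm_num
  refine ⟨by
      intro n hn
      simp only [Finset.mem_insert, Finset.mem_singleton] at hn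
      rcases hn with rfl | rfl | rfl | rfl | rfl | rfl | rfl | rfl | rfl | rfl | rfl | rfl | rfl | rfl | rfl | rfl
      · exact ⟨1, orderOf_one, good_odd orderOf_one (by norm_num)⟩
      · obtain ⟨a, ha⟩ := exists_prime h (p := 3) (by norm_num) (by norm_num)
        exact ⟨a, ha, good_odd ha (by norm_num)⟩
      · obtain ⟨a, ha⟩ := exists_prime h (p := 7) (by norm_num) (by norm_num)
        exact ⟨a, ha, good_odd ha (by norm_num)⟩
      · obtain ⟨a, ha⟩ := exists_a12 h (n := 9) (by omega)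
        exact ⟨a, ha, good_odd ha (by norm_num)⟩
      · exact ⟨x11, e11, good_odd e11 (by norm_num)⟩
      · exact ⟨x13, e13, good_odd e13 (by norm_num)⟩
      · obtain ⟨a, ha⟩ := exists_a12 h (n := 15) (by omega)
        exact ⟨a, ha, good_odd ha (by norm_num)⟩
      · obtain ⟨a, ha⟩ := exists_prime h (p := 17) (by norm_num) (by norm_num)
        exact ⟨a, ha, good_odd ha (by norm_num)⟩
      · exact ⟨x19, e19, good_odd e19 (by norm_num)⟩
      · obtain ⟨a, ha⟩ := exists_a12 h (n := 21) (by omega)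
        exact ⟨a, ha, good_odd ha (by norm_num)⟩
      · exact ⟨x25, e25, good_odd e25 (by norm_num)⟩
      · obtain ⟨t, ht, -⟩ := exists_mul (q := 3) e11 Nat.prime_three (by norm_num) (by rw [c11]; norm_num)
        exact ⟨_, ht, good_odd ht (by norm_num)⟩
      · obtain ⟨a, ha⟩ := exists_a12 h (n := 35) (by omega)
        exact ⟨a, ha, good_odd ha (by norm_num)⟩
      · obtain ⟨t, ht, -⟩ := exists_mul (q := 3) e13 Nat.prime_three (by norm_num) (by rw [c13]; norm_num)
        exact ⟨_, ht, good_odd ht (by norm_num)⟩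
      · exact ⟨_, o55, good_odd o55 (by norm_num)⟩
      · obtain ⟨y, hy, hy1, -⟩ := exists_self (q := 2) e19 Nat.prime_two (by norm_num) (norm19 h3 h e19).1
        exact ⟨y, hy, hy1⟩, by
      intro n hn
      simp only [Finset.mem_insert, Finset.mem_singleton] at hn
      rcases hn with rfl | rfl | rfl | rfl | rfl
      · exact ⟨y5, x25 ^ 5, oy5, o25, good_odd oy5 (by norm_num), good_odd o25 (by norm_num), hnc5⟩
      · exact ⟨x23, x23⁻¹, e23, by rw [orderOf_inv, e23], good_odd e23 (by norm_num),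
          good_odd (by rw [orderOf_inv, e23]) (by norm_num), r23⟩
      · exact ⟨x31, x31⁻¹, e31, by rw [orderOf_inv, e31], good_odd e31 (by norm_num),
          good_odd (by rw [orderOf_inv, e31]) (by norm_num), r31⟩
      · exact ⟨x47, x47⁻¹, e47, by rw [orderOf_inv, e47], good_odd e47 (by norm_num),
          good_odd (by rw [orderOf_inv, e47]) (by norm_num), r47⟩
      · obtain ⟨y, hy, hy1, hy2, a, ha⟩ := exists_self (q := 2) e23 Nat.prime_two (by norm_num) n23.1
        refine ⟨y, y⁻¹, hy, by rw [orderOf_inv, hy], hy1, hy2, fun hcj => r23 ?_⟩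
        obtain ⟨c, hc⟩ := isConj_iff.1 hcj
        refine isConj_iff.2 ⟨c, ?_⟩
        rw [← ha, ← conj_pow, hc, inv_pow]⟩

/-- **26 good classes** -/
theorem exists_F26 (B : Base) (h3 : SThree.{0}) (h : Spor.IsoB L) :
    ∃ F : Finset (ConjClasses L), F.card = 26 ∧ ∀ C ∈ F, ∃ g : L, ConjClasses.mk g = C ∧ MGood 2 g := by
  obtain ⟨hO, hR⟩ := facts26 B h3 h
  obtain ⟨F, hF, hFP⟩ := exists_classes (MGood 2 (S := L)) {1, 3, 7, 9, 11, 13, 15, 17, 19, 21, 25, 33, 35, 39, 55, 38}
    {5, 23, 31, 47, 46} (by decide) hO hR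
  refine ⟨F, ?_, hFP⟩
  rw [hF]
  rfl

/-- **(B, 5)** -/
theorem nb_five (B : Base) (h3 : SThree.{0}) (h : Spor.IsoB L) {m : ℕ} (hm : m ∣ 2) : H665.RIM.NB.{u} 5 m L := by
  rcases (Nat.dvd_prime Nat.prime_two).1 hm with rfl | rfl
  · obtain ⟨F, hF, hFP⟩ := exists_F26 B h3 h
    obtain ⟨x25, e25⟩ := BCent.exists_elt h
    refine H620.RIM.nb_of_cent (n := 2) Nat.prime_five (by norm_num) (by rw [e25]; norm_num) F (fun C hC => ?_)
      (by rw [BCent.card_cent h e25, hF]; norm_num)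
    obtain ⟨g, hg, -⟩ := hFP C hC
    exact ⟨g, hg, mGood_of_coprime (Nat.coprime_one_right _)⟩
  · obtain ⟨F, hF, hFP⟩ := exists_F26 B h3 h
    obtain ⟨x25, e25⟩ := BCent.exists_elt h
    exact H620.RIM.nb_of_cent (n := 2) Nat.prime_five (by norm_num) (by rw [e25]; norm_num) F hFP
      (by rw [BCent.card_cent h e25, hF]; norm_num)

theorem nball_five_of (B : Base) (h3 : SThree.{0}) (h : Spor.IsoB L) : H665.RIM.NBall.{u} 5 L :=
  H620.RIM.nball_of_mdvd (H620.RIM.dvd_b h) fun _ hm _ _ => nb_five B h3 h hm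

end Cfsg.Agent.H810.RIM.BFin
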