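import Cfsg.Agent.H810.RIM.BFin

/-!
# 28 classes of the Baby Monster which are good for the double cover (helper810, S4816)

* `self_of_prod` : self-centralizing elements of a direct product `⟨y⟩ × X`;
* `exists_F28` : a set of 28 classes with `MGood 2` (the 26 of `exists_F26`, and elements of order 44, 66);
* `nball_three_of` : `NBall 3 B` from an element of order 27 with the centralizer of order 27.
-/

set_option autoImplicit false
set_option maxRecDepth 100000
set_option linter.unusedSectionVars false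

namespace Cfsg.Agent.H810.RIM.BFin3

open Cfsg Cfsg.Agent Subgroup
open Cfsg.Agent.H810.RIM.Fin2 Cfsg.Agent.H810.RIM.BFin
open Cfsg.Agent.H620.RIM (MGood mGood_of_coprime mGood_of_self)
open Cfsg.Agent.H715.Mon.Grp (SThree)
open Cfsg.Agent.H940.Eng (Base)
open Equiv (Perm)

universe u

theorem self_of_prod {G : Type u} [Group G] [Finite G] {y : G} {p q : ℕ} (hy : orderOf y = p) {X : Type} [Group X]
    [Finite X] (f : X →* G) (hf : Function.Injective f) (hfy : ∀ s, f s * y = y * f s)
    (hcard : Nat.card (centralizer ({y} : Set G)) = p * Nat.card X) (hcop : p.Coprime (Nat.card X)) {s : X}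
    (hs : orderOf s = q) (hself : Nat.card (centralizer ({s} : Set X)) = q) :
    orderOf (y * f s) = p * q ∧ Nat.card (centralizer ({y * f s} : Set G)) = p * q := by
  have hpq : p.Coprime q := by
    refine Nat.Coprime.coprime_dvd_right ?_ hcop
    rw [← hs]
    exact orderOf_dvd_natCard s
  have hc : Commute y (f s) := (hfy s).symm
  have ho : orderOf (y * f s) = p * q := by
    rw [hc.orderOf_mul_eq_mul_orderOf_of_coprime (by rw [hy, orderOf_injective f hf, hs]; exact hpq), hy,
      orderOf_injective f hf, hs]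
  refine ⟨ho, ?_⟩
  have hd : p * q ∣ Nat.card (centralizer ({y * f s} : Set G)) := by
    rw [← ho]
    exact Subgroup.orderOf_dvd_natCard _ (mem_centralizer_singleton_iff.2 rfl)
  have hcz : ∀ (a : zpowers y) (t : X), Commute (a : G) (f t) := by
    rintro ⟨_, n, rfl⟩ t
    exact ((show Commute y (f t) from (hfy t).symm).zpow_left n)
  -- the product map
  let φ : zpowers y × X → centralizer ({y} : Set G) := fun a => ⟨(a.1 : G) * f a.2, by
    rw [mem_centralizer_singleton_iff]
    obtain ⟨n, hn⟩ := Subgroup.mem_zpowers_iff.1 a.1.2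
    have h1 : Commute (a.1 : G) y := by
      rw [← hn]
      exact (Commute.refl y).zpow_left n
    exact (h1.mul_left (show Commute (f a.2) y from hfy a.2)).eq⟩
  have hφ : Function.Injective φ := by
    rintro ⟨a, t⟩ ⟨b, r⟩ hab
    have h1 : (a : G) * f t = b * f r := congrArg Subtype.val hab
    have h2 : (b : G)⁻¹ * a = f (r * t⁻¹) := by
      rw [map_mul, map_inv]
      calc (b : G)⁻¹ * a = (b : G)⁻¹ * (a * f t) * (f t)⁻¹ := by group
        _ = (b : G)⁻¹ * (b * f r) * (f t)⁻¹ := by rw [h1]
        _ = f r * (f t)⁻¹ := by group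
    have h3 : orderOf ((b : G)⁻¹ * a) ∣ p := by
      have h8 := Subgroup.orderOf_dvd_natCard (zpowers y) (mul_mem (inv_mem b.2) a.2)
      rwa [Nat.card_zpowers, hy] at h8
    have h4 : orderOf ((b : G)⁻¹ * a) ∣ Nat.card X := by
      rw [h2, orderOf_injective f hf]
      exact orderOf_dvd_natCard _
    have h5 : (b : G)⁻¹ * a = 1 := by
      rw [← orderOf_eq_one_iff]
      exact Nat.eq_one_of_dvd_coprimes hcop h3 h4
    have h6 : r * t⁻¹ = 1 := hf (by rw [← h2, h5, map_one])
    have h7 : a = b := Subtype.ext (inv_mul_eq_one.1 h5).symm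
    rw [h7, mul_inv_eq_one.1 h6]
  have hcφ : Nat.card (zpowers y × X) = Nat.card (centralizer ({y} : Set G)) := by
    rw [Nat.card_prod, Nat.card_zpowers, hy, hcard]
  have hbij : Function.Bijective φ := by
    refine (Nat.bijective_iff_injective_and_card φ).2 ⟨hφ, hcφ⟩
  -- the centralizer of the product
  obtain ⟨n1, hn1, hn2⟩ := Nat.chineseRemainder hpq 1 0
  have hyw : (y * f s) ^ n1 = y := by
    rw [hc.mul_pow]
    have h6 : y ^ n1 = y := by
      conv_rhs => rw [← pow_one y]
      exact pow_eq_pow_iff_modEq.2 (by rw [hy]; exact hn1)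
    have h7 : (f s) ^ n1 = 1 := by
      rw [← orderOf_dvd_iff_pow_eq_one, orderOf_injective f hf, hs]
      exact (Nat.modEq_zero_iff_dvd).1 hn2
    rw [h6, h7, mul_one]
  let ψ : zpowers y × centralizer ({s} : Set X) → centralizer ({y * f s} : Set G) := fun a => ⟨(a.1 : G) * f a.2, by
    rw [mem_centralizer_singleton_iff]
    obtain ⟨n, hn⟩ := Subgroup.mem_zpowers_iff.1 a.1.2
    have h1 : Commute (a.1 : G) y := by
      rw [← hn]
      exact (Commute.refl y).zpow_left n
    have h2 : Commute (f a.2) (f s) := by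
      have h3 : (a.2 : X) * s = s * a.2 := mem_centralizer_singleton_iff.1 a.2.2
      have h4 := congrArg f h3
      rw [map_mul, map_mul] at h4
      exact h4
    exact ((h1.mul_right (hcz a.1 s)).mul_left ((show Commute (f a.2) y from hfy a.2).mul_right h2)).eq⟩
  have hψ : Function.Surjective ψ := by
    rintro ⟨g, hg⟩
    have hg' : Commute g (y * f s) := mem_centralizer_singleton_iff.1 hg
    have hgy : Commute g y := by
      have := hg'.pow_right n1
      rwa [hyw] at this
    have hgs : Commute g (f s) := by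
      have h3 := (hgy.inv_right).mul_right hg'
      rwa [inv_mul_cancel_left] at h3
    obtain ⟨⟨a, t⟩, hat⟩ := hbij.2 ⟨g, mem_centralizer_singleton_iff.2 hgy.eq⟩
    have h1 : (a : G) * f t = g := congrArg Subtype.val hat
    have h2 : t * s = s * t := by
      apply hf
      rw [map_mul, map_mul]
      have h3 : f t = (a : G)⁻¹ * g := by rw [← h1, inv_mul_cancel_left]
      rw [h3]
      exact (((hcz a s).inv_left).mul_left hgs).eq
    exact ⟨⟨a, ⟨t, mem_centralizer_singleton_iff.2 h2⟩⟩, Subtype.ext h1⟩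
  have hle := Nat.card_le_card_of_surjective ψ hψ
  rw [Nat.card_prod, Nat.card_zpowers, hy, hself] at hle
  have h0 : 0 < Nat.card (centralizer ({y * f s} : Set G)) := Nat.card_pos
  exact le_antisymm hle (Nat.le_of_dvd h0 hd)

def t4 : Perm (Fin 5) where
  toFun := ![1, 2, 3, 0, 4]
  invFun := ![3, 0, 1, 2, 4]
  left_inv := by decide
  right_inv := by decide

def t6 : Perm (Fin 5) where
  toFun := ![1, 2, 0, 4, 3]
  invFun := ![2, 0, 1, 4, 3]
  left_inv := by decide
  right_inv := by decide

theorem f4 : t4 ^ 4 = 1 ∧ t4 ^ 2 ≠ 1 := by decide +kernel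
theorem f6 : t6 ^ 6 = 1 ∧ t6 ^ 2 ≠ 1 ∧ t6 ^ 3 ≠ 1 := by decide +kernel
theorem g4 : Fintype.card {t : Perm (Fin 5) // t * t4 = t4 * t} = 4 := by decide +kernel
theorem g6 : Fintype.card {t : Perm (Fin 5) // t * t6 = t6 * t} = 6 := by decide +kernel

theorem card_cent_eq (t : Perm (Fin 5)) :
    Nat.card (centralizer ({t} : Set (Perm (Fin 5)))) = Fintype.card {s : Perm (Fin 5) // s * t = t * s} := by
  rw [← Nat.card_eq_fintype_card]
  exact Nat.card_congr (Equiv.subtypeEquivRight fun s => mem_centralizer_singleton_iff)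

variable {L : Type u} [Group L] [Finite L]

/-- elements of order 44 and 66 -/
theorem exists_44_66 (B : Base) (h : Spor.IsoB L) :
    (∃ a : L, orderOf a = 44 ∧ MGood 2 a) ∧ ∃ a : L, orderOf a = 66 ∧ MGood 2 a := by
  obtain ⟨x11, e11⟩ := exists_prime h (p := 11) (by norm_num) (by norm_num)
  obtain ⟨hc, f, hf, hfy⟩ := H705.TwoB.Eleven.struct11 B h e11
  have h120 : Nat.card (Perm (Fin 5)) = 120 := by
    rw [Nat.card_perm, Nat.card_fin]
    decide
  constructor
  · have h1 := self_of_prod (q := 4) e11 f hf hfy (by rw [hc, h120]) (by rw [h120]; norm_num) (s := t4)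
      (order_two_primes Nat.prime_two Nat.prime_two f4.1 f4.2 f4.2) (by rw [card_cent_eq, g4])
    exact ⟨_, h1.1, mGood_of_self (orderOf_pos _).ne' (by rw [h1.2, h1.1])⟩
  · have h1 := self_of_prod (q := 6) e11 f hf hfy (by rw [hc, h120]) (by rw [h120]; norm_num) (s := t6)
      (order_two_primes Nat.prime_two Nat.prime_three f6.1 f6.2.1 f6.2.2) (by rw [card_cent_eq, g6])
    exact ⟨_, h1.1, mGood_of_self (orderOf_pos _).ne' (by rw [h1.2, h1.1])⟩

/-- **28 good classes** -/
theorem exists_F28 (B : Base) (h3 : SThree.{0}) (h : Spor.IsoB L) :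
    ∃ F : Finset (ConjClasses L), F.card = 28 ∧ ∀ C ∈ F, ∃ g : L, ConjClasses.mk g = C ∧ MGood 2 g := by
  obtain ⟨h44, h66⟩ := exists_44_66 B h
  obtain ⟨hO, hR⟩ := facts26 B h3 h
  obtain ⟨F, hF, hFP⟩ := exists_classes (MGood 2 (S := L))
    {1, 3, 7, 9, 11, 13, 15, 17, 19, 21, 25, 33, 35, 39, 55, 38, 44, 66}
    {5, 23, 31, 47, 46} (by decide) (by
      intro n hn
      by_cases h1 : n = 44
      · rw [h1]; exact h44
      by_cases h2 : n = 66
      · rw [h2]; exact h66
      refine hO n ?_
      simp only [Finset.mem_insert, Finset.mem_singleton] at hn ⊢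
      omega) hR
  refine ⟨F, ?_, hFP⟩
  rw [hF]
  rfl

/-- **(B, 3) from an element of order 27** -/
theorem nball_three_of (B : Base) (h3 : SThree.{0}) (h : Spor.IsoB L)
    (hx : ∃ x : L, orderOf x = 27 ∧ Nat.card (centralizer ({x} : Set L)) = 27) : H665.RIM.NBall.{u} 3 L := by
  refine H620.RIM.nball_of_mdvd (H620.RIM.dvd_b h) fun m hm hm2 _ => ?_
  have h2 : m = 2 := by
    have := Nat.le_of_dvd (by norm_num) hm
    omega
  subst h2
  obtain ⟨F, hF, hFP⟩ := exists_F28 B h3 h
  obtain ⟨x, hx, hc⟩ := hx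
  exact H620.RIM.nb_of_cent (n := 3) Nat.prime_three (by norm_num) (by rw [hx]; norm_num) F hFP
    (by rw [hc, hF]; norm_num)

end Cfsg.Agent.H810.RIM.BFin3
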