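import Mathlib

/-!
# Sets of conjugacy classes from element orders (helper810, S4816)

* `exists_classes` : one class for each `n ∈ O`, two classes for each `n ∈ R`, all with the property `P`;
* `two_dvd_of_real` : a real element `x ≠ 1` of odd order: `2 |C(x)|` divides `|N(⟨x⟩)|`;
* `mul_of_dvd` : from `x` of prime order `p` and `q ∣ |C(x)|` an element of order `p q`, with its centralizer.
-/

set_option autoImplicit false

namespace Cfsg.Agent.H810.RIM.Fin2

open Subgroup

universe u

/-- the order of a class -/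
theorem order_eq_of_mk {S : Type u} [Group S] {a b : S} (h : ConjClasses.mk a = ConjClasses.mk b) :
    orderOf a = orderOf b := by
  obtain ⟨c, hc⟩ := isConj_iff.1 (ConjClasses.mk_eq_mk_iff_isConj.1 h)
  rw [← hc]
  exact (MulEquiv.orderOf_eq (MulAut.conj c) a).symm

theorem exists_classes {S : Type u} [Group S] (P : S → Prop) (O R : Finset ℕ) (hd : Disjoint O R)
    (hO : ∀ n ∈ O, ∃ a : S, orderOf a = n ∧ P a)
    (hR : ∀ n ∈ R, ∃ a b : S, orderOf a = n ∧ orderOf b = n ∧ P a ∧ P b ∧ ¬ IsConj a b) :
    ∃ F : Finset (ConjClasses S), F.card = O.card + 2 * R.card ∧ ∀ C ∈ F, ∃ g : S, ConjClasses.mk g = C ∧ P g := by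
  classical
  choose! f hf hfP using hO
  choose! a b ha hb hPa hPb hab using hR
  have i1 : (O.image fun n => ConjClasses.mk (f n)).card = O.card := by
    refine Finset.card_image_of_injOn fun m hm n hn h => ?_
    rw [← hf m hm, ← hf n hn]
    exact order_eq_of_mk h
  have i2 : (R.image fun n => ConjClasses.mk (a n)).card = R.card := by
    refine Finset.card_image_of_injOn fun m hm n hn h => ?_
    rw [← ha m hm, ← ha n hn]
    exact order_eq_of_mk h
  have i3 : (R.image fun n => ConjClasses.mk (b n)).card = R.card := by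
    refine Finset.card_image_of_injOn fun m hm n hn h => ?_
    rw [← hb m hm, ← hb n hn]
    exact order_eq_of_mk h
  have d1 : Disjoint (O.image fun n => ConjClasses.mk (f n)) (R.image fun n => ConjClasses.mk (a n)) := by
    rw [Finset.disjoint_left]
    intro C h1 h2
    obtain ⟨m, hm, rfl⟩ := Finset.mem_image.1 h1
    obtain ⟨n, hn, h⟩ := Finset.mem_image.1 h2
    have h3 := order_eq_of_mk h
    rw [ha n hn, hf m hm] at h3
    subst h3
    exact Finset.disjoint_left.1 hd hm hn
  have d2 : Disjoint ((O.image fun n => ConjClasses.mk (f n)) ∪ (R.image fun n => ConjClasses.mk (a n)))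
      (R.image fun n => ConjClasses.mk (b n)) := by
    rw [Finset.disjoint_left]
    intro C h1 h2
    obtain ⟨n, hn, rfl⟩ := Finset.mem_image.1 h2
    rcases Finset.mem_union.1 h1 with h1 | h1
    · obtain ⟨m, hm, h⟩ := Finset.mem_image.1 h1
      have h3 := order_eq_of_mk h
      rw [hb n hn, hf m hm] at h3
      subst h3
      exact Finset.disjoint_left.1 hd hm hn
    · obtain ⟨m, hm, h⟩ := Finset.mem_image.1 h1
      have h3 := order_eq_of_mk h
      rw [hb n hn, ha m hm] at h3
      subst h3
      exact hab m hm (ConjClasses.mk_eq_mk_iff_isConj.1 h)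
  refine ⟨((O.image fun n => ConjClasses.mk (f n)) ∪ (R.image fun n => ConjClasses.mk (a n))) ∪
      (R.image fun n => ConjClasses.mk (b n)), ?_, ?_⟩
  · rw [Finset.card_union_of_disjoint d2, Finset.card_union_of_disjoint d1, i1, i2, i3]
    ring
  · intro C hC
    rcases Finset.mem_union.1 hC with hC | hC
    · rcases Finset.mem_union.1 hC with hC | hC
      · obtain ⟨n, hn, rfl⟩ := Finset.mem_image.1 hC
        exact ⟨_, rfl, hfP n hn⟩
      · obtain ⟨n, hn, rfl⟩ := Finset.mem_image.1 hC
        exact ⟨_, rfl, hPa n hn⟩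
    · obtain ⟨n, hn, rfl⟩ := Finset.mem_image.1 hC
      exact ⟨_, rfl, hPb n hn⟩

/-- **real elements of odd order** -/
theorem two_dvd_of_real {G : Type u} [Group G] [Finite G] {x : G} (ho : Odd (orderOf x)) (h1 : x ≠ 1)
    (hr : IsConj x x⁻¹) :
    2 * Nat.card (centralizer ({x} : Set G)) ∣ Nat.card (normalizer ((zpowers x : Subgroup G) : Set G)) := by
  obtain ⟨g, hg⟩ := isConj_iff.1 hr
  have hgN : g ∈ normalizer ((zpowers x : Subgroup G) : Set G) := by
    rw [Subgroup.mem_normalizer_iff]
    have key : ∀ n : ℤ, g * x ^ n * g⁻¹ = x ^ (-n) := by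
      intro n
      rw [← conj_zpow, hg, inv_zpow, zpow_neg]
    intro y
    constructor
    · intro hy
      obtain ⟨n, rfl⟩ := Subgroup.mem_zpowers_iff.1 hy
      exact Subgroup.mem_zpowers_iff.2 ⟨-n, (key n).symm⟩
    · intro hy
      obtain ⟨n, hn⟩ := Subgroup.mem_zpowers_iff.1 hy
      refine Subgroup.mem_zpowers_iff.2 ⟨-n, ?_⟩
      have h2 : g * x ^ (-n) * g⁻¹ = g * y * g⁻¹ := by rw [key, neg_neg]; exact hn
      exact mul_left_cancel (mul_right_cancel h2)
  have hker := Subgroup.normalizerMonoidHom_ker (zpowers x)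
  have hCx : centralizer ({x} : Set G) = centralizer ((zpowers x : Subgroup G) : Set G) := by
    rw [zpowers_eq_closure, centralizer_closure]
  set f := (zpowers x).normalizerMonoidHom with hf
  have hle : centralizer ((zpowers x : Subgroup G) : Set G) ≤ normalizer ((zpowers x : Subgroup G) : Set G) :=
    centralizer_le_normalizer _
  have hck : Nat.card f.ker = Nat.card (centralizer ({x} : Set G)) := by
    rw [hker, hCx]
    exact Nat.card_congr (Subgroup.subgroupOfEquivOfLe hle).toEquiv
  have hmem : ∀ (n : G) (hn : n ∈ normalizer ((zpowers x : Subgroup G) : Set G)), f ⟨n, hn⟩ = 1 ↔ n * x = x * n := by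
    intro n hn
    rw [← MonoidHom.mem_ker, hker, Subgroup.mem_subgroupOf, ← hCx, mem_centralizer_singleton_iff]
  have h2 : orderOf (f ⟨g, hgN⟩) = 2 := by
    have : Fact (Nat.Prime 2) := ⟨Nat.prime_two⟩
    refine orderOf_eq_prime ?_ ?_
    · rw [← map_pow]
      have h3 : (⟨g, hgN⟩ : ↥(normalizer ((zpowers x : Subgroup G) : Set G))) ^ 2 = ⟨g ^ 2, pow_mem hgN 2⟩ := rfl
      rw [h3, hmem]
      have h4 : g * g * x * (g * g)⁻¹ = x := by
        calc g * g * x * (g * g)⁻¹ = g * (g * x * g⁻¹) * g⁻¹ := by group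
          _ = g * x⁻¹ * g⁻¹ := by rw [hg]
          _ = (g * x * g⁻¹)⁻¹ := by group
          _ = x := by rw [hg, inv_inv]
      rw [pow_two]
      exact mul_inv_eq_iff_eq_mul.1 h4
    · intro h3
      rw [hmem] at h3
      have h4 : x⁻¹ = x := by rw [← hg, h3, mul_inv_cancel_right]
      have h5 : x ^ 2 = 1 := by
        rw [pow_two]
        nth_rewrite 1 [← h4]
        exact inv_mul_cancel x
      have h6 := orderOf_dvd_of_pow_eq_one h5
      rcases (Nat.dvd_prime Nat.prime_two).1 h6 with h7 | h7
      · exact h1 (orderOf_eq_one_iff.1 h7)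
      · rw [h7] at ho
        exact absurd ho (by decide)
  have h3 : 2 ∣ Nat.card f.range := by
    rw [← h2]
    exact Subgroup.orderOf_dvd_natCard _ (show f ⟨g, hgN⟩ ∈ f.range from ⟨_, rfl⟩)
  have h4 := f.ker.card_mul_index
  rw [Subgroup.index_ker, hck] at h4
  rw [← h4, mul_comm 2]
  exact mul_dvd_mul_left _ h3

/-- elements of composite order -/
theorem exists_mul {G : Type u} [Group G] [Finite G] {x : G} {p q : ℕ} (hx : orderOf x = p) (hq : q.Prime)
    (hpq : p.Coprime q) (hd : q ∣ Nat.card (centralizer ({x} : Set G))) :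
    ∃ y : G, orderOf (x * y) = p * q ∧ orderOf y = q ∧ x * y = y * x ∧
      Nat.card (centralizer ({x * y} : Set G)) ∣ Nat.card (centralizer ({x} : Set G)) ∧
      centralizer ({x * y} : Set G) ≤ centralizer ({x} : Set G) ∧
      centralizer ({x * y} : Set G) ≤ centralizer ({y} : Set G) := by
  have : Fact q.Prime := ⟨hq⟩
  obtain ⟨y, hy⟩ := exists_prime_orderOf_dvd_card' (G := ↥(centralizer ({x} : Set G))) q hd
  have hyo : orderOf (y : G) = q := by rw [Subgroup.orderOf_coe, hy]
  have hc : Commute x (y : G) := (mem_centralizer_singleton_iff.1 y.2).symm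
  have hp0 : 0 < p := hx ▸ orderOf_pos x
  have hle : centralizer ({x * (y : G)} : Set G) ≤ centralizer ({x} : Set G) := by
    intro g hg
    rw [mem_centralizer_singleton_iff] at hg ⊢
    obtain ⟨a, ha1, ha2⟩ := Nat.chineseRemainder hpq 1 0
    have h1 : (x * (y : G)) ^ a = x := by
      rw [hc.mul_pow]
      have h2 : x ^ a = x := by
        conv_rhs => rw [← pow_one x]
        exact pow_eq_pow_iff_modEq.2 (by rw [hx]; exact ha1)
      have h3 : (y : G) ^ a = 1 := by
        rw [← orderOf_dvd_iff_pow_eq_one, hyo]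
        exact (Nat.modEq_zero_iff_dvd).1 ha2
      rw [h2, h3, mul_one]
    have h4 := ((show Commute g (x * (y : G)) from hg).pow_right a).eq
    rwa [h1] at h4
  have hle2 : centralizer ({x * (y : G)} : Set G) ≤ centralizer ({(y : G)} : Set G) := by
    intro g hg
    have h1 : Commute g x := mem_centralizer_singleton_iff.1 (hle hg)
    have h2 : Commute g (x * (y : G)) := mem_centralizer_singleton_iff.1 hg
    rw [mem_centralizer_singleton_iff]
    have h3 := (h1.inv_right).mul_right h2
    rw [inv_mul_cancel_left] at h3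
    exact h3.eq
  refine ⟨y, ?_, hyo, hc.eq, Subgroup.card_dvd_of_le hle, hle, hle2⟩
  rw [hc.orderOf_mul_eq_mul_orderOf_of_coprime (by rw [hx, hyo]; exact hpq), hx, hyo]

end Cfsg.Agent.H810.RIM.Fin2
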