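import Cfsg.Agent.H793.Cyc.FiveHN

/-!
# The centralizers of the elements of order 25 in a Sylow 5-subgroup of the Harada-Norton group (helper810, S4816)

`P = Q⟨F⟩`, `Q = 5 ^ (1 + 4)`; `F` commutes with `u₀ = A B D⁴` and acts on `Q / ⟨W⟩` with one Jordan block. An element
`q F` commuting with `u₀` is conjugate under `Q` to some `W ^ e F`, hence has order 5.

* `pow5_of_comm` : `q F` commuting with `u₀` has order 5;
* `mem_W` : an element of `Q` commuting with `q F` of order 25 is in `⟨W⟩`;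
* `mem_zpowers` : `C_P(x) = ⟨x⟩` for `x ∈ P` of order 25.
-/

set_option autoImplicit false

namespace Cfsg.Agent.H810.RIM.HnCent

open Subgroup Cfsg Cfsg.Agent.H839.Rad.Ext Cfsg.Agent.H981.InvHN Cfsg.Agent.H793.Cyc.FiveHN
open Cfsg.Agent.H839.Rad.HN (W A B C₁ D F ext e_fa1 e_fb1 e_fa2 e_fb2 FW F_Q W_ne e_w5 hW)

/-- the exponents are determined modulo 5 -/
theorem nf_inj {i j u l m i' j' u' l' m' : ℤ}
    (h : nf W A B C₁ D i j u l m = nf W A B C₁ D i' j' u' l' m') :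
    (5 : ℤ) ∣ i - i' ∧ (5 : ℤ) ∣ j - j' ∧ (5 : ℤ) ∣ u - u' ∧ (5 : ℤ) ∣ l - l' := by
  have key : ∀ r s t v : ℤ, (5 : ℤ) ∣ (i * s - r * j + u * v - t * l) - (i' * s - r * j' + u' * v - t * l') := by
    intro r s t v
    have e1 := ext.nf_mul_comm i j u l m r s t v 0
    have e2 := ext.nf_mul_comm i' j' u' l' m' r s t v 0
    rw [h, e2] at e1
    have e3 := mul_right_cancel e1
    have e4 : W ^ ((i * s - r * j + u * v - t * l) - (i' * s - r * j' + u' * v - t * l')) = 1 := by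
      rw [zpow_sub, ← e3, mul_inv_cancel]
    have e5 := orderOf_dvd_iff_zpow_eq_one.2 e4
    rw [ext.hw] at e5
    exact_mod_cast e5
  have k1 := key 0 1 0 0
  have k2 := key 1 0 0 0
  have k3 := key 0 0 0 1
  have k4 := key 0 0 1 0
  refine ⟨?_, ?_, ?_, ?_⟩ <;> omega

/-- `W` commutes with all elements of `P` -/
theorem W_comm {x : Spor.HN} (hx : x ∈ P) : Commute W x := by
  obtain ⟨q, hq, s, rfl⟩ := hx
  exact (show Commute W q from (ext.comm_w q hq).symm).mul_right ((show Commute W F from FW.symm).zpow_right s)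

/-- the fixed vector -/
noncomputable def u0 : Spor.HN := nf W A B C₁ D 1 1 0 4 0

theorem u0_mem : u0 ∈ ext.Q := ext.nf_mem _ _ _ _ _

theorem nf_mod' {i j u l m i' j' u' l' m' : ℤ} (h1 : (5 : ℤ) ∣ i - i') (h2 : (5 : ℤ) ∣ j - j') (h3 : (5 : ℤ) ∣ u - u')
    (h4 : (5 : ℤ) ∣ l - l') (h5 : (5 : ℤ) ∣ m - m') :
    nf W A B C₁ D i j u l m = nf W A B C₁ D i' j' u' l' m' := by
  rw [nf_mod h1 h2 h3 h4]
  unfold nf
  rw [zpow_eq e_w5 h5]

theorem F_u0 : F * u0 * F⁻¹ = u0 := by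
  have h1 : u0 = A * B * (D * D * D * D) := by
    simp only [u0, nf, zpow_one, zpow_zero, mul_one]
    rfl
  have e1 : F * A * F⁻¹ = nf W A B C₁ D 0 0 4 4 1 := Cfsg.Agent.H839.Rad.HN.conj_of e_fa1
  have e2 : F * B * F⁻¹ = nf W A B C₁ D 0 1 0 4 2 := Cfsg.Agent.H839.Rad.HN.conj_of e_fb1
  have e3 : F * D * F⁻¹ = nf W A B C₁ D 4 0 4 4 3 := Cfsg.Agent.H839.Rad.HN.conj_of e_fb2
  have h2 : F * (A * B * (D * D * D * D)) * F⁻¹ = (F * A * F⁻¹) * (F * B * F⁻¹) * ((F * D * F⁻¹) * (F * D * F⁻¹) *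
      (F * D * F⁻¹) * (F * D * F⁻¹)) := by group
  rw [h1, h2, e1, e2, e3, ext.nf_mul, ext.nf_mul, ext.nf_mul, ext.nf_mul, ext.nf_mul, ← h1]
  exact nf_mod' (by norm_num) (by norm_num) (by norm_num) (by norm_num) (by norm_num)

/-- **an element `q F` commuting with `u₀` has order 5** -/
theorem pow5_of_comm {q : Spor.HN} (hq : q ∈ ext.Q) (h : (q * F) * u0 = u0 * (q * F)) : (q * F) ^ 5 = 1 := by
  have hqu : q * u0 = u0 * q := by
    have h1 : F * u0 = u0 * F := by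
      calc F * u0 = F * u0 * F⁻¹ * F := by group
        _ = u0 * F := by rw [F_u0]
    have h2 : q * u0 * F = u0 * q * F := by
      calc q * u0 * F = q * (u0 * F) := by group
        _ = q * (F * u0) := by rw [h1]
        _ = u0 * q * F := by rw [← mul_assoc, h, ← mul_assoc]
    exact mul_right_cancel h2
  obtain ⟨i, j, u, l, m, rfl⟩ := hq
  obtain ⟨v, hv, he⟩ := exists_code i j u l m
  rw [he] at hqu ⊢
  have hd := ext.comm_iff.1 hqu
  -- the conjugating element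
  obtain ⟨m1, h1⟩ := stepF (4 * (d0 v + d1 v)) (4 * (d3 v + 4 * d0 v)) (4 * (4 * d1 v)) 0 0
  set r : Spor.HN := nf W A B C₁ D ((d0 v + d1 v : ℕ) : ℤ) ((d3 v + 4 * d0 v : ℕ) : ℤ) ((4 * d1 v : ℕ) : ℤ) 0 0 with hr
  set r' : Spor.HN := nf W A B C₁ D ((4 * (d0 v + d1 v) : ℕ) : ℤ) ((4 * (d3 v + 4 * d0 v) : ℕ) : ℤ)
    ((4 * (4 * d1 v) : ℕ) : ℤ) ((0 : ℕ) : ℤ) 0 with hr'
  have hrr : r * r' ∈ zpowers W := by
    rw [hr, hr', ext.nf_mul]
    apply ext.nf_mem_zpowers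
    · push_cast; omega
    · push_cast; omega
    · push_cast; omega
    · norm_num
  obtain ⟨e, hrr⟩ := mem_zpowers_iff.1 hrr
  replace hrr := hrr.symm
  have hrQ : r ∈ ext.Q := ext.nf_mem _ _ _ _ _
  have hinv : r⁻¹ = r' * W ^ (-e) := by
    rw [inv_eq_iff_mul_eq_one, ← mul_assoc, hrr, ← zpow_add, add_neg_cancel, zpow_zero]
  have cWF : ∀ n : ℤ, Commute (W ^ n) F := fun n => (show Commute W F from FW.symm).zpow_left n
  have cWr : ∀ n : ℤ, Commute (W ^ n) r := fun n => (show Commute W r from (ext.comm_w r hrQ).symm).zpow_left n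
  have h2 : r * F * r⁻¹ = r * (F * r' * F⁻¹) * F * W ^ (-e) := by
    rw [hinv]
    group
  have h3 : ∃ n : ℤ, r * (F * r' * F⁻¹) = nv v m * W ^ n := by
    rw [h1, hr, ext.nf_mul, nv]
    have h5 : ∀ n : ℤ, W ^ n = nf W A B C₁ D 0 0 0 0 n := fun n => by simp [nf]
    refine ⟨(0 + m1 - ((4 * (4 * (4 * d1 v)) + 4 * 0 : ℕ) : ℤ) * ((d3 v + 4 * d0 v : ℕ) : ℤ) -
      ((4 * (4 * (d0 v + d1 v)) + 4 * (4 * (4 * d1 v)) + 4 * 0 : ℕ) : ℤ) * 0) - m, ?_⟩
    rw [h5, ext.nf_mul]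
    refine nf_mod' ?_ ?_ ?_ ?_ ?_
    · push_cast; omega
    · push_cast; omega
    · push_cast; omega
    · push_cast; omega
    · have : ∀ x y : ℤ, x = y → (5 : ℤ) ∣ x - y := by
        rintro x y rfl
        simp
      apply this
      push_cast
      ring
  obtain ⟨n, h3⟩ := h3
  have hQ : nv v m ∈ ext.Q := ext.nf_mem _ _ _ _ _
  have h4 : nv v m * F = W ^ (e - n) * (r * F * r⁻¹) := by
    have c1 : Commute (W ^ n) (nv v m) := (show Commute W (nv v m) from (ext.comm_w _ hQ).symm).zpow_left n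
    have c2 : Commute (W ^ (-e)) (nv v m * W ^ n * F) :=
      (((show Commute W (nv v m) from (ext.comm_w _ hQ).symm).zpow_left (-e)).mul_right
        ((Commute.refl W).zpow_zpow (-e) n)).mul_right (cWF (-e))
    rw [h2, h3, ← c2.eq, ← c1.eq, ← mul_assoc, ← mul_assoc, ← mul_assoc, ← zpow_add, ← zpow_add,
      show e - n + -e + n = 0 by ring, zpow_zero, one_mul]
  have c3 : Commute (W ^ (e - n)) (r * F * r⁻¹) := ((cWr _).mul_right (cWF _)).mul_right ((cWr _).inv_right)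
  rw [h4, c3.mul_pow, ← zpow_natCast, ← zpow_mul, mul_comm, zpow_mul, zpow_natCast, e_w5, one_zpow, one_mul, conj_pow,
    F5, mul_one, mul_inv_cancel]

/-- **an element of `Q` commuting with `q F` of order 25 is in `⟨W⟩`** -/
theorem mem_W {q y : Spor.HN} (hq : q ∈ ext.Q) (hy : y ∈ ext.Q) (h : (q * F) * y = y * (q * F))
    (h5 : (q * F) ^ 5 ≠ 1) : y ∈ zpowers W := by
  obtain ⟨i', j', u', l', n, rfl⟩ := hy
  obtain ⟨v, hv, he⟩ := exists_code i' j' u' l' n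
  rw [he] at h ⊢
  obtain ⟨m1, h1⟩ := stepF (d0 v) (d1 v) (d2 v) (d3 v) n
  have h2 : q * (F * nf W A B C₁ D (d0 v) (d1 v) (d2 v) (d3 v) n * F⁻¹) = nv v n * q := by
    have h3 : q * (F * nf W A B C₁ D (d0 v) (d1 v) (d2 v) (d3 v) n * F⁻¹) = (q * F) * nv v n * F⁻¹ := by
      rw [nv]; group
    rw [h3, h]
    group
  have hq' := hq
  obtain ⟨i, j, u, l, m, rfl⟩ := hq'
  rw [h1, ext.nf_mul_comm, nv, ← mul_assoc] at h2
  have h4 := mul_right_cancel h2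
  have h5' : ∀ e : ℤ, W ^ e = nf W A B C₁ D 0 0 0 0 e := fun e => by simp [nf]
  rw [h5', ext.nf_mul] at h4
  obtain ⟨k0, k1, k2, k3⟩ := nf_inj h4
  push_cast at k0 k1 k2 k3
  -- the exponents are `b, b, 0, -b`
  have c2 : (5 : ℤ) ∣ d2 v := by omega
  have c0 : (5 : ℤ) ∣ (d0 v : ℤ) + d3 v := by omega
  have c1 : (5 : ℤ) ∣ (d0 v : ℤ) - d1 v := by omega
  by_cases hb : (5 : ℤ) ∣ (d0 v : ℤ)
  · exact ext.nf_mem_zpowers hb (by omega) c2 (by omega)
  · exfalso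
    apply h5
    apply pow5_of_comm hq
    -- a power of `y` is `u₀ W ^ e`
    obtain ⟨t, ht⟩ : ∃ t : ℕ, (5 : ℤ) ∣ t * (d0 v : ℤ) - 1 := by
      have h6 : (d0 v : ℤ) % 5 = 1 ∨ (d0 v : ℤ) % 5 = 2 ∨ (d0 v : ℤ) % 5 = 3 ∨ (d0 v : ℤ) % 5 = 4 := by omega
      rcases h6 with h | h | h | h
      · exact ⟨1, by push_cast; omega⟩
      · exact ⟨3, by push_cast; omega⟩
      · exact ⟨2, by push_cast; omega⟩
      · exact ⟨4, by push_cast; omega⟩
    obtain ⟨e, -, h7⟩ := ext.nf_pow (d0 v) (d1 v) (d2 v) (d3 v) n t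
    have h8 : nv v n ^ t = u0 * W ^ (((t : ℕ) : ℤ) * n - e * ((d0 v : ℤ) * (d1 v : ℤ) + (d2 v : ℤ) * (d3 v : ℤ))) := by
      rw [nv, h7, u0, h5', ext.nf_mul]
      obtain ⟨a0, ha0⟩ := ht
      obtain ⟨a1, ha1⟩ := c1
      obtain ⟨a2, ha2⟩ := c2
      obtain ⟨a3, ha3⟩ := c0
      refine nf_mod' ⟨a0, ?_⟩ ⟨a0 - t * a1, ?_⟩ ⟨t * a2, ?_⟩ ⟨t * a3 - a0 - 1, ?_⟩ ⟨0, ?_⟩
      · linear_combination ha0
      · linear_combination ha0 - (t : ℤ) * ha1
      · linear_combination (t : ℤ) * ha2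
      · linear_combination (t : ℤ) * ha3 - ha0
      · ring
    have h9 : Commute (nf W A B C₁ D i j u l m * F) (nv v n ^ t) := (show Commute _ (nv v n) from h).pow_right t
    rw [h8] at h9
    have hP : nf W A B C₁ D i j u l m * F ∈ P := ⟨_, hq, 1, by rw [zpow_one]⟩
    have h10 : Commute (nf W A B C₁ D i j u l m * F) (u0 * W ^ (((t : ℕ) : ℤ) * n - e * ((d0 v : ℤ) * (d1 v : ℤ) +
      (d2 v : ℤ) * (d3 v : ℤ))) * (W ^ (((t : ℕ) : ℤ) * n - e * ((d0 v : ℤ) * (d1 v : ℤ) +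
      (d2 v : ℤ) * (d3 v : ℤ))))⁻¹) := h9.mul_right ((W_comm hP).symm.zpow_right _).inv_right
    rw [mul_inv_cancel_right] at h10
    exact h10.eq

/-- **`C_P(x) = ⟨x⟩` for `x ∈ P` of order 25.** -/
theorem mem_zpowers {x y : Spor.HN} (hx : x ∈ P) (hy : y ∈ P) (ho : orderOf x = 25) (h : x * y = y * x) :
    y ∈ zpowers x := by
  have : Fact (Nat.Prime 5) := ⟨by norm_num⟩
  obtain ⟨q, hq, s, rfl⟩ := hx
  by_cases h5 : (5 : ℤ) ∣ s
  · exfalso
    have h1 : F ^ s = 1 := by rw [zpow_eq F5 (i := s) (j := 0) (by simpa using h5), zpow_zero]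
    rw [h1, mul_one] at ho
    have h2 := orderOf_dvd_of_pow_eq_one (ext.pow_eq_one (by decide) q hq)
    rw [ho] at h2
    norm_num at h2
  obtain ⟨t, ht, htc⟩ : ∃ t : ℕ, (5 : ℤ) ∣ s * t - 1 ∧ Nat.Coprime t 5 := by
    have h4 : s % 5 = 1 ∨ s % 5 = 2 ∨ s % 5 = 3 ∨ s % 5 = 4 := by omega
    rcases h4 with h | h | h | h
    · exact ⟨1, by push_cast; omega, by norm_num⟩
    · exact ⟨3, by push_cast; omega, by norm_num⟩
    · exact ⟨2, by push_cast; omega, by norm_num⟩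
    · exact ⟨4, by push_cast; omega, by norm_num⟩
  obtain ⟨q', hq', he⟩ := pow_form hq s t
  rw [zpow_eq F5 (i := s * t) (j := 1) ht, zpow_one] at he
  set x := q * F ^ s with hx
  have hx5 : (q' * F) ^ 5 ≠ 1 := by
    rw [← he]
    intro h1
    have h2 : orderOf (x ^ t) = 25 := by
      rw [Nat.Coprime.orderOf_pow (by rw [ho, show 25 = 5 ^ 2 by norm_num]; exact (Nat.Coprime.pow_right 2 htc).symm), ho]
    have h3 := orderOf_dvd_of_pow_eq_one h1
    rw [h2] at h3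
    norm_num at h3
  have hW5 : W ∈ zpowers x := by
    have h1 := norm_mem hq'
    have h2 : orderOf ((q' * F) ^ 5) = 5 := by
      obtain ⟨n, hn⟩ := mem_zpowers_iff.1 h1
      refine orderOf_eq_prime ?_ hx5
      rw [← hn, ← zpow_natCast, ← zpow_mul, mul_comm, zpow_mul, zpow_natCast, e_w5, one_zpow]
    have h3 : zpowers ((q' * F) ^ 5) = zpowers W := by
      apply Subgroup.eq_of_le_of_card_ge (zpowers_le.2 h1)
      rw [Nat.card_zpowers, Nat.card_zpowers, h2, ext.hw]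
    have h4 : zpowers W ≤ zpowers x := by
      rw [← h3, ← he, zpowers_le]
      exact pow_mem (pow_mem (Subgroup.mem_zpowers x) t) 5
    exact h4 (Subgroup.mem_zpowers W)
  obtain ⟨q2, hq2, s2, rfl⟩ := hy
  -- `y` modulo a power of `x ^ t` is in `Q`
  obtain ⟨n, hn⟩ : ∃ n : ℕ, (5 : ℤ) ∣ s2 - n := ⟨(s2 % 5).toNat, by omega⟩
  obtain ⟨q3, hq3, he3⟩ := pow_form hq' 1 n
  rw [zpow_one, one_mul] at he3
  have h6 : q2 * F ^ s2 * ((q' * F) ^ n)⁻¹ = q2 * q3⁻¹ := by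
    rw [he3, zpow_eq F5 (i := s2) (j := n) hn]
    group
  have hc : Commute (q' * F) (q2 * F ^ s2) := by
    rw [← he]
    exact (show Commute x _ from h).pow_left t
  have h7 : Commute (q' * F) (q2 * q3⁻¹) := by
    rw [← h6]
    exact hc.mul_right ((Commute.refl _).pow_right n).inv_right
  have h8 := mem_W hq' (mul_mem hq2 (inv_mem hq3)) h7.eq hx5
  have h9 : q2 * F ^ s2 = q2 * q3⁻¹ * (q' * F) ^ n := by rw [← h6, inv_mul_cancel_right]
  rw [h9, ← he]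
  refine mul_mem ?_ (pow_mem (pow_mem (Subgroup.mem_zpowers x) t) n)
  exact (zpowers_le.2 hW5) h8

end Cfsg.Agent.H810.RIM.HnCent
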